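/-
Coset enumeration data, found by a computer search; checked by `decide +kernel`.
-/
import Cfsg.Agent.Lib.Spor.TC.Check

namespace CfsgLib.Spor.Fi23.CE6

open CfsgLib.Spor.TC

def edgeTbl : Tbl :=
  .bin (.bin (.tip 0x600006200006000061000060000600000400006400005000054000050000520000500005100005000050000030000550000400004200004000041000040000400000300004300003000034000030000310000300003000002000032000020000250000200002400002000023000020000200000100002100001000015000010000140000100001300001000012000000000100000000000500000000004000000000030000000000200000000001) (.tip 0x1300015100014000144000140001430001400014200014000141000120001450001300013400013000133000130001200001100013200012000124000120001230001200012100010000122000110001150001100011400011000111000110001000000f0001130001000010500010000104000100000d10000c0001030000f0000f50000f0000e40000f0000f20000f0000f10000c0000f00000e0000e50000e0000e30000e0000e20000e0000e1)) (.bin (.tip 0xb0000e00000d0000d50000d0000d40000d0000d20000d0000d00000a0000d30000c0000c50000c0000b40000c0000c20000a0000c10000b0000b50000b0000b30000b0000b2000090000b10000a0000a50000a0000940000a0000a0000080000a20000900009500009000093000090000900000700009200008000074000080000830000800008100008000080000060000850000700005300007000071000070000700000400007500006000063)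 (.tip 0x1a0001a50001a0001a30001a0001a20001a0001a10001a0001a0000190001a4000190001950001900019200019000191000190001900001800019300018000185000180001840001800018100018000180000170001820001700017400017000173000170001610001700017000015000175000160001640001600016300016000162000160001400001300016500015000154000150001530001500015200015000150))

def nodeTbl : Tbl :=
  .bin (.tip 0x1940001830001720001550001350001310001250001120001020000f30000c30000c00000b00000a30000a1000091000082000072000065000045000044000035000033000022000011000000000000) (.none)

def rowTbl : Tbl :=
  .bin (.tip 0x1a000190001800017000160001500014000130001200011000100000f0000e0000d0000c0000b0000a00009000080000700006000050000400003000020000100000) (.none)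

def rels : List (List ℕ) := [[0, 1, 0, 1, 0, 1], [0, 2, 0, 2], [0, 3, 0, 3], [0, 4, 0, 4], [0, 5, 0, 5], [1, 2, 1, 2, 1, 2], [1, 3, 1, 3], [1, 4, 1, 4], [1, 5, 1, 5], [2, 3, 2, 3, 2, 3], [2, 4, 2, 4], [2, 5, 2, 5, 2, 5], [3, 4, 3, 4, 3, 4], [3, 5, 3, 5], [4, 5, 4, 5]]

def subs : List (List ℕ) := [[1], [2], [3], [4], [5]]

noncomputable def cert : Cert :=
  ⟨6, rels, subs, edgeTbl.get 44, nodeTbl.get 24, rowTbl.get 20⟩

end CfsgLib.Spor.Fi23.CE6
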